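import Mathlib.RingTheory.PowerSeries.Log
import Mathlib.RingTheory.PowerSeries.Inverse
import Mathlib.Analysis.Complex.Basic
import Mathlib.LinearAlgebra.Lagrange
import Mathlib.Data.Nat.Choose.Factorization
import Mathlib.Data.Nat.Choose.Lucas
import Mathlib.RingTheory.MvPolynomial.Symmetric.Defs
import Mathlib.LinearAlgebra.TensorProduct.Basis
import Mathlib.RepresentationTheory.Invariants

/-! Elementary lemmas for the zeta-function area. -/

namespace Groth.Agent.ZetaAlg

open PowerSeries in
theorem log_exp :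
    subst (exp ℚ - 1) (log ℚ) = X ∧ subst (log ℚ) (exp ℚ) = 1 + X := by
  set A : PowerSeries ℚ := mk fun n => algebraMap ℚ ℚ ((-1 : ℚ) ^ n) with hAdef
  have hA : A * (1 + X) = 1 := by
    ext n
    cases n with
    | zero => simp [A, mul_add]
    | succ n => simp [A, mul_add, coeff_succ_mul_X, pow_succ]
  have hd : derivative ℚ (log ℚ) = A := deriv_log
  constructor
  · refine derivative.ext ?_ ?_
    · rw [derivative_subst HasSubst.exp_sub_one, hd, derivative_X, map_sub, derivative_exp,
        Derivation.map_one_eq_zero, sub_zero]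
      have hs : HasSubst (exp ℚ - 1) := HasSubst.exp_sub_one
      have h1 := congrArg (subst (exp ℚ - 1)) hA
      rw [subst_mul hs, subst_add hs, ← coe_substAlgHom hs, map_one, substAlgHom_X, coe_substAlgHom hs,
        add_sub_cancel] at h1
      exact h1
    · rw [constantCoeff_X]
      exact constantCoeff_subst_eq_zero (by simp [← constantCoeff_eq]) _ constantCoeff_log
  · have h0 : constantCoeff (subst (log ℚ) (exp ℚ)) = 1 := by
      have hs : HasSubst (log ℚ) := HasSubst.log
      rw [← coeff_zero_eq_constantCoeff_apply, coeff_subst' hs, finsum_eq_single _ 0 fun d hd => ?_]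
      · simp
      · simp [zero_pow hd]
    have hA' : derivative ℚ A = -(A * A) := by
      have h1 := congrArg (derivative ℚ) hA
      simp only [Derivation.leibniz, map_add, Derivation.map_one_eq_zero, derivative_X, zero_add, smul_eq_mul,
        mul_one] at h1
      linear_combination A * h1 - derivative ℚ A * hA
    have hG : subst (log ℚ) (exp ℚ) * A = 1 := by
      refine derivative.ext ?_ ?_
      · rw [Derivation.map_one_eq_zero, Derivation.leibniz, derivative_subst HasSubst.log, derivative_exp, hd, hA']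
        simp only [smul_eq_mul]; ring
      · rw [map_mul, h0, map_one]; simp [A, ← coeff_zero_eq_constantCoeff_apply]
    linear_combination (1 + X : PowerSeries ℚ) * hG - subst (log ℚ) (exp ℚ) * hA

theorem norm_le_one_of_bounded {n : ℕ} (β : Fin n → ℂ) (C : ℝ)
    (hC : ∀ r : ℕ, 1 ≤ r → ‖∑ i, β i ^ r‖ ≤ C) (i : Fin n) : ‖β i‖ ≤ 1 := by
  classical
  by_contra hlt
  push Not at hlt
  let S : Finset ℂ := Finset.univ.image β
  let p : Polynomial ℂ := Lagrange.basis S id (β i)
  have hi : β i ∈ S := Finset.mem_image_of_mem _ (Finset.mem_univ _)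
  have hp : ∀ j, p.eval (β j) = if β j = β i then 1 else 0 := fun j => by
    split_ifs with h
    · rw [h]; exact Lagrange.eval_basis_self Function.injective_id.injOn hi
    · exact Lagrange.eval_basis_of_ne (v := id) (Ne.symm h) (Finset.mem_image_of_mem _ (Finset.mem_univ _))
  let m : ℕ := (Finset.univ.filter fun j => β j = β i).card
  have hm : 1 ≤ m := Finset.card_pos.mpr ⟨i, by simp⟩
  have key : ∀ r : ℕ, 1 ≤ r → (m : ℝ) * ‖β i‖ ^ r ≤ (∑ l ∈ p.support, ‖p.coeff l‖) * C := fun r hr => by
    have h1 : ∑ j, β j ^ r * p.eval (β j) = (m : ℂ) * β i ^ r := by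
      simp only [hp, mul_ite, mul_one, mul_zero, ← Finset.sum_filter]
      rw [Finset.sum_congr rfl (g := fun _ => β i ^ r) fun j hj => by rw [(Finset.mem_filter.mp hj).2],
        Finset.sum_const, nsmul_eq_mul]
    have h2 : ∑ j, β j ^ r * p.eval (β j) = ∑ l ∈ p.support, p.coeff l * ∑ j, β j ^ (r + l) := by
      simp only [Polynomial.eval_eq_sum, Polynomial.sum_def, Finset.mul_sum]
      rw [Finset.sum_comm]
      exact Finset.sum_congr rfl fun _ _ => Finset.sum_congr rfl fun _ _ => by rw [pow_add]; ring
    calc (m : ℝ) * ‖β i‖ ^ r = ‖(m : ℂ) * β i ^ r‖ := by rw [norm_mul, norm_pow, Complex.norm_natCast]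
      _ ≤ ∑ l ∈ p.support, ‖p.coeff l * ∑ j, β j ^ (r + l)‖ := by rw [← h1, h2]; exact norm_sum_le _ _
      _ ≤ ∑ l ∈ p.support, ‖p.coeff l‖ * C := Finset.sum_le_sum fun l _ => by
          rw [norm_mul]; exact mul_le_mul_of_nonneg_left (hC _ (by omega)) (norm_nonneg _)
      _ = _ := (Finset.sum_mul _ _ _).symm
  obtain ⟨r, hr⟩ := pow_unbounded_of_one_lt ((∑ l ∈ p.support, ‖p.coeff l‖) * C) hlt
  have h1 := key (r + 1) (by omega)
  have h2 : ‖β i‖ ^ r ≤ ‖β i‖ ^ (r + 1) := pow_le_pow_right₀ hlt.le (Nat.le_succ r)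
  have h3 : ‖β i‖ ^ (r + 1) ≤ (m : ℝ) * ‖β i‖ ^ (r + 1) :=
    le_mul_of_one_le_left (by positivity) (by exact_mod_cast hm)
  linarith

theorem not_dvd_choose_pow (p N : ℕ) (hp : p.Prime) (hN : N ≠ 0) :
    ¬ p ∣ N.choose (p ^ N.factorization p) := by
  haveI := Fact.mk hp
  obtain ⟨c, hc⟩ := Nat.ordProj_dvd N p
  have hc0 : ¬ p ∣ c := fun h => by
    obtain ⟨e, he⟩ := h
    exact Nat.pow_succ_factorization_not_dvd hN hp ⟨e, hc.trans (by rw [he, pow_succ]; ring)⟩
  have hl : N.choose (p ^ N.factorization p) ≡ c [MOD p] := by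
    have h := Choose.choose_pow_mul_pow_mul_modEq_choose_nat (p := p) (k := N.factorization p) (a := c) (b := 1)
    rwa [mul_one, ← hc, Nat.choose_one_right] at h
  intro h
  exact hc0 ((hl.dvd_iff dvd_rfl).mp h)

theorem invariants_tprod_trivial {k G V W : Type*} [Field k] [Group G] [AddCommGroup V] [Module k V]
    [AddCommGroup W] [Module k W] (ρ : Representation k G V) :
    (ρ.tprod (Representation.trivial k G W)).invariants =
      LinearMap.range (TensorProduct.map ρ.invariants.subtype (LinearMap.id : W →ₗ[k] W)) := by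
  classical
  apply le_antisymm
  · intro z hz
    let ℬ := Module.Basis.ofVectorSpace k W
    let Φ := TensorProduct.equivFinsuppOfBasisRight (M := V) ℬ
    have hΦ : ∀ g (z : TensorProduct k V W) i, Φ ((ρ.tprod (Representation.trivial k G W)) g z) i = ρ g (Φ z i) := by
      intro g z i
      induction z using TensorProduct.induction_on with
      | zero => simp
      | tmul a b => simp [Φ, Representation.tprod_apply]
      | add y z hy hz => rw [map_add, map_add, Finsupp.add_apply, hy, hz, map_add, Finsupp.add_apply, map_add]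
    rw [← Φ.symm_apply_apply z,
      show Φ.symm (Φ z) = (Φ z).sum fun i a => TensorProduct.tmul k a (ℬ i) from
        TensorProduct.equivFinsuppOfBasisRight_symm_apply ℬ _, Finsupp.sum]
    refine Submodule.sum_mem _ fun i _ => ?_
    refine ⟨TensorProduct.tmul k ⟨Φ z i, fun g => ?_⟩ (ℬ i), by simp⟩
    rw [← hΦ, hz g]
  · rintro _ ⟨z, rfl⟩
    induction z using TensorProduct.induction_on with
    | zero => simp
    | tmul v w => intro g; simp [Representation.tprod_apply, v.2 g]
    | add y z hy hz => rw [map_add]; exact Submodule.add_mem _ hy hz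

end Groth.Agent.ZetaAlg
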