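import Mathlib.RingTheory.PowerSeries.Exp
import Mathlib.RingTheory.PowerSeries.Derivative
import Mathlib.RingTheory.PowerSeries.Inverse
import Mathlib.RingTheory.Binomial
import Mathlib.Algebra.Field.GeomSum

/-! The Todd series and its Lagrange inversion coefficients. -/

namespace Groth.Agent.ZetaAlg

open PowerSeries

theorem todd_constant {f : PowerSeries ℚ} (hf : f * (exp ℚ - 1) = X * exp ℚ) : constantCoeff f = 1 := by
  have h := congrArg (coeff 1) hf
  rw [coeff_succ_X_mul, coeff_mul, Finset.Nat.sum_antidiagonal_eq_sum_range_succ_mk] at h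
  simpa [Finset.sum_range_succ] using h

theorem todd_ode {f : PowerSeries ℚ} (hf : f * (exp ℚ - 1) = X * exp ℚ) :
    X * derivative ℚ f = f + X * f - f ^ 2 := by
  have he : exp ℚ ≠ 0 := fun h => by simpa using congrArg constantCoeff h
  have hd := congrArg (derivative ℚ) hf
  simp only [Derivation.leibniz, map_sub, derivative_exp, Derivation.map_one_eq_zero, sub_zero, smul_eq_mul,
    derivative_X, mul_one] at hd
  refine mul_right_cancel₀ he ?_
  linear_combination f * hd - derivative ℚ f * hf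

theorem todd_coeff {f : PowerSeries ℚ} (hf : f * (exp ℚ - 1) = X * exp ℚ) (n : ℕ) : coeff n (f ^ (n + 1)) = 1 := by
  induction n with
  | zero => simpa using todd_constant hf
  | succ n ih =>
    have hode := todd_ode hf
    have h1 : X * derivative ℚ (f ^ (n + 1)) =
        ((n + 1 : ℕ) : PowerSeries ℚ) * (f ^ (n + 1) + X * f ^ (n + 1) - f ^ (n + 2)) := by
      rw [derivative_pow, Nat.add_sub_cancel]
      linear_combination ((n + 1 : ℕ) : PowerSeries ℚ) * f ^ n * hode
    have h2 := congrArg (coeff (n + 1)) h1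
    rw [coeff_succ_X_mul, coeff_derivative, ← map_natCast (C (R := ℚ)) (n + 1), coeff_C_mul, map_sub, map_add,
      coeff_succ_X_mul, ih] at h2
    push_cast at h2
    have hn : ((n : ℚ) + 1) ≠ 0 := by positivity
    have h3 : ((n : ℚ) + 1) * (coeff (n + 1) (f ^ (n + 2)) - 1) = 0 := by linear_combination h2
    simpa [sub_eq_zero, hn] using h3

theorem exists_todd : ∃ f : PowerSeries ℚ, f * (exp ℚ - 1) = X * exp ℚ := by
  let u : PowerSeries ℚ := mk fun n => coeff (n + 1) (exp ℚ)
  have hu : exp ℚ - 1 = X * u := by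
    ext n
    cases n with
    | zero => simp
    | succ n => simp [u, coeff_succ_X_mul, coeff_one]
  have hu0 : constantCoeff u ≠ 0 := by simp [u, ← coeff_zero_eq_constantCoeff_apply]
  refine ⟨exp ℚ * u⁻¹, ?_⟩
  rw [hu, show exp ℚ * u⁻¹ * (X * u) = X * exp ℚ * (u⁻¹ * u) by ring, PowerSeries.inv_mul_cancel u hu0, mul_one]

theorem todd_iff (f : PowerSeries ℚ) :
    (∀ n : ℕ, coeff n (f ^ (n + 1)) = 1) ↔ f * (exp ℚ - 1) = X * exp ℚ := by
  refine ⟨fun h => ?_, fun h => todd_coeff h⟩
  obtain ⟨g, hg⟩ := exists_todd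
  suffices hfg : f = g by rw [hfg]; exact hg
  have hg0 := todd_constant hg
  have hf0 : constantCoeff f = 1 := by simpa using h 0
  ext n
  induction n using Nat.strong_induction_on with
  | _ n ih =>
    obtain ⟨d, hd⟩ : X ^ n ∣ f - g := X_pow_dvd_iff.mpr fun m hm => by simp [ih m hm]
    have hdn : coeff n f - coeff n g = constantCoeff d := by
      rw [← map_sub, hd]
      simpa using coeff_X_pow_mul d n 0
    have h1 : f ^ (n + 1) - g ^ (n + 1) = X ^ n * (d * ∑ i ∈ Finset.range (n + 1), f ^ i * g ^ (n + 1 - 1 - i)) := by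
      rw [← geom_sum₂_mul, hd]; ring
    have h2 := congrArg (coeff n) h1
    have h3 := coeff_X_pow_mul (d * ∑ i ∈ Finset.range (n + 1), f ^ i * g ^ (n + 1 - 1 - i)) n 0
    rw [zero_add] at h3
    rw [map_sub, h n, todd_coeff hg, sub_self, h3, coeff_zero_eq_constantCoeff_apply, map_mul, map_sum] at h2
    simp [hf0, hg0] at h2
    have hn : ((n : ℚ) + 1) ≠ 0 := by positivity
    rw [show constantCoeff d = 0 by tauto, sub_eq_zero] at hdn
    exact hdn

theorem todd_choose {f : PowerSeries ℚ} (hf : f * (exp ℚ - 1) = X * exp ℚ) (m : ℤ) (n : ℕ) :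
    coeff n (rescale (m : ℚ) (exp ℚ) * f ^ (n + 1)) = ((Ring.choose (m + n : ℤ) n : ℤ) : ℚ) := by
  induction n generalizing m with
  | zero =>
    have h0 : constantCoeff (rescale (m : ℚ) (exp ℚ)) = 1 := by
      rw [← coeff_zero_eq_constantCoeff_apply, coeff_rescale]; simp
    simp [todd_constant hf, h0]
  | succ n ih =>
    have step : ∀ m : ℤ, coeff (n + 1) (rescale (m : ℚ) (exp ℚ) * f ^ (n + 2)) =
        coeff (n + 1) (rescale ((m - 1 : ℤ) : ℚ) (exp ℚ) * f ^ (n + 2)) + ((Ring.choose (m + n : ℤ) n : ℤ) : ℚ) := by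
      intro m
      have he : rescale (m : ℚ) (exp ℚ) = rescale ((m - 1 : ℤ) : ℚ) (exp ℚ) * exp ℚ := by
        conv_rhs => arg 2; rw [show exp ℚ = rescale (1 : ℚ) (exp ℚ) by simp]
        rw [exp_mul_exp_eq_exp_add]; push_cast; ring_nf
      have h1 : rescale (m : ℚ) (exp ℚ) * f ^ (n + 2) =
          rescale ((m - 1 : ℤ) : ℚ) (exp ℚ) * f ^ (n + 2) + X * (rescale (m : ℚ) (exp ℚ) * f ^ (n + 1)) := by
        rw [he]
        linear_combination rescale ((m - 1 : ℤ) : ℚ) (exp ℚ) * f ^ (n + 1) * hf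
      rw [h1, map_add, coeff_succ_X_mul, ih]
    have hch : ∀ m : ℤ, Ring.choose (m + (n + 1 : ℕ) : ℤ) (n + 1) =
        Ring.choose (m - 1 + (n + 1 : ℕ) : ℤ) (n + 1) + Ring.choose (m + n : ℤ) n := fun m => by
      rw [show (m + (n + 1 : ℕ) : ℤ) = (m + n) + 1 by push_cast; ring, Ring.choose_succ_succ,
        show (m - 1 + (n + 1 : ℕ) : ℤ) = m + n by push_cast; ring, add_comm]
    induction m with
    | zero =>
      rw [Int.cast_zero, rescale_zero_apply, constantCoeff_exp, map_one, one_mul, todd_coeff hf, zero_add,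
        Ring.choose_natCast, Nat.choose_self]
      simp
    | succ i hi =>
      rw [step, hch, Int.cast_add (R := ℚ), add_sub_cancel_right, hi]
    | pred i hi =>
      have h1 := step (-(i : ℤ))
      rw [hi, hch, Int.cast_add (R := ℚ)] at h1
      linarith

end Groth.Agent.ZetaAlg
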